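import Groth.Agent.FlatComplex.Elementwise
import Mathlib.Algebra.Category.ModuleCat.FilteredColimits
import Mathlib.Algebra.Category.ModuleCat.Colimits
import Mathlib.CategoryTheory.Limits.Types.Filtered
import Mathlib.Algebra.Homology.HomologicalComplexLimits

/-!
# Homology of complexes of modules commutes with filtered colimits
-/

universe u

open CategoryTheory Limits HomologicalComplex

namespace Groth.Agent.FilteredHomology

open Groth.Agent.FlatComplex

variable {R : Type u} [CommRing R] {ι : Type} {c : ComplexShape ι} {J : Type u} [SmallCategory J] [IsFiltered J]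

theorem preservesColimitsOfShape_homology (i : ι) :
    PreservesColimitsOfShape J (homologyFunctor (ModuleCat.{u} R) c i) := by
  refine ⟨fun {D} => ⟨fun {t} ht => ⟨?_⟩⟩⟩
  let E := fun k => eval (ModuleCat.{u} R) c k
  have hev : ∀ k, IsColimit ((E k).mapCocone t) := fun k => isColimitOfPreserves (E k) ht
  refine isColimitOfReflects (forget (ModuleCat.{u} R)) (Types.FilteredColimit.isColimitOf' _ _ ?_ ?_)
  · intro h
    obtain ⟨z, hz, rfl⟩ := cls_surjective (S := (t.pt).sc i) h
    obtain ⟨j, z', hz'⟩ := Concrete.isColimit_exists_rep _ (hev i) z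
    have h0 : ((E (c.next i)).mapCocone t).ι.app j ((D.obj j).d i (c.next i) z') =
        ((E (c.next i)).mapCocone t).ι.app j 0 := by
      show (t.ι.app j).f (c.next i) ((D.obj j).d i (c.next i) z') = (t.ι.app j).f (c.next i) 0
      rw [map_zero, ← ConcreteCategory.comp_apply, ← (t.ι.app j).comm, ConcreteCategory.comp_apply]
      exact (congrArg _ hz').trans hz
    obtain ⟨k, f, g, hfg⟩ := (Concrete.isColimit_rep_eq_iff_exists _ (hev (c.next i)) _ _).1 h0
    have hk : (D.obj k).d i (c.next i) ((D.map f).f i z') = 0 := by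
      rw [← ConcreteCategory.comp_apply, (D.map f).comm, ConcreteCategory.comp_apply]
      exact hfg.trans (map_zero ((D.map g).f (c.next i)).hom)
    refine ⟨k, cls ((D.obj k).sc i) ((D.map f).f i z') hk, Eq.symm ?_⟩
    obtain ⟨h', e⟩ := homologyMap_cls ((shortComplexFunctor (ModuleCat.{u} R) c i).map (t.ι.app k))
      ((D.map f).f i z') hk
    refine e.trans ((cls_eq_cls_iff _ _ h' hz).2 ⟨0, ?_⟩)
    rw [map_zero, sub_eq_zero]
    show (t.ι.app k).f i ((D.map f).f i z') = z
    rw [← ConcreteCategory.comp_apply, ← comp_f, t.w f]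
    exact hz'
  · intro j a b hab
    obtain ⟨x, hx, rfl⟩ := cls_surjective (S := (D.obj j).sc i) a
    obtain ⟨y, hy, rfl⟩ := cls_surjective (S := (D.obj j).sc i) b
    obtain ⟨hx', ex⟩ := homologyMap_cls ((shortComplexFunctor (ModuleCat.{u} R) c i).map (t.ι.app j)) x hx
    obtain ⟨hy', ey⟩ := homologyMap_cls ((shortComplexFunctor (ModuleCat.{u} R) c i).map (t.ι.app j)) y hy
    obtain ⟨w, hw⟩ := (cls_eq_cls_iff _ _ hx' hy').1 (ex.symm.trans (hab.trans ey))
    obtain ⟨l, w', hw'⟩ := Concrete.isColimit_exists_rep _ (hev (c.prev i)) w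
    let m := IsFiltered.max j l
    let p : j ⟶ m := IsFiltered.leftToMax j l
    let q : l ⟶ m := IsFiltered.rightToMax j l
    have h0 : ((E i).mapCocone t).ι.app m ((D.map p).f i (x - y)) =
        ((E i).mapCocone t).ι.app m ((D.obj m).d (c.prev i) i ((D.map q).f (c.prev i) w')) := by
      show (t.ι.app m).f i ((D.map p).f i (x - y)) =
        (t.ι.app m).f i ((D.obj m).d (c.prev i) i ((D.map q).f (c.prev i) w'))
      rw [← ConcreteCategory.comp_apply, ← ConcreteCategory.comp_apply ((D.obj m).d _ _), ← comp_f, t.w p,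
        ← (t.ι.app m).comm, ConcreteCategory.comp_apply, ← ConcreteCategory.comp_apply ((D.map q).f _),
        ← comp_f, t.w q]
      exact (map_sub ((t.ι.app j).f i).hom x y).trans (hw.trans (congrArg _ hw'.symm))
    obtain ⟨k, f, g, hfg⟩ := (Concrete.isColimit_rep_eq_iff_exists _ (hev i) _ _).1 h0
    refine ⟨IsFiltered.coeq f g, p ≫ f ≫ IsFiltered.coeqHom f g, ?_⟩
    let r := p ≫ f ≫ IsFiltered.coeqHom f g
    obtain ⟨hx'', ex'⟩ := homologyMap_cls ((shortComplexFunctor (ModuleCat.{u} R) c i).map (D.map r)) x hx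
    obtain ⟨hy'', ey'⟩ := homologyMap_cls ((shortComplexFunctor (ModuleCat.{u} R) c i).map (D.map r)) y hy
    refine ex'.trans (((cls_eq_cls_iff _ _ hx'' hy'').2
      ⟨(D.map (q ≫ f ≫ IsFiltered.coeqHom f g)).f (c.prev i) w', ?_⟩).trans ey'.symm)
    show (D.map r).f i x - (D.map r).f i y = _
    refine (map_sub ((D.map r).f i).hom x y).symm.trans ?_
    have hfg' := congrArg ((D.map (IsFiltered.coeqHom f g)).f i) hfg
    refine Eq.trans ?_ (hfg'.trans ?_)
    · simp only [r, Functor.map_comp, comp_f, ConcreteCategory.comp_apply]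
      rfl
    · show _ = (D.obj _).d (c.prev i) i ((D.map (q ≫ f ≫ IsFiltered.coeqHom f g)).f (c.prev i) w')
      show (D.map (IsFiltered.coeqHom f g)).f i ((D.map g).f i
        ((D.obj m).d (c.prev i) i ((D.map q).f (c.prev i) w'))) = _
      rw [← ConcreteCategory.comp_apply ((D.map g).f i), ← comp_f, ← Functor.map_comp,
        ← IsFiltered.coeq_condition f g, ← ConcreteCategory.comp_apply ((D.obj m).d _ _),
        ← (D.map (f ≫ IsFiltered.coeqHom f g)).comm, ConcreteCategory.comp_apply,
        ← ConcreteCategory.comp_apply ((D.map q).f _), ← comp_f, ← Functor.map_comp]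

end Groth.Agent.FilteredHomology
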